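import Cfsg.Agent.H336.SpSix.Def

/-!
# No alternating group contains an elementary abelian subgroup of order 64 with symplectic normaliser

Task 1299 (row of S3405).
-/

set_option autoImplicit false

namespace Cfsg.Agent.H669.Sp6

open Cfsg.Agent.H336.SpSix Equiv.Perm

theorem card_V : Fintype.card V = 64 := by simp [V]

namespace Alt

variable {n : ℕ} {th : V → alternatingGroup (Fin n)} {O K0 : Subgroup (alternatingGroup (Fin n))}

/-- the permutation given by a vector -/
abbrev P (th : V → alternatingGroup (Fin n)) (v : V) : Equiv.Perm (Fin n) := (th v : Equiv.Perm (Fin n))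

theorem P_add (h : Sit th O K0) (u v : V) : P th (u + v) = P th u * P th v := by
  simp only [P, h.add, Subgroup.coe_mul]

theorem P_zero (h : Sit th O K0) : P th 0 = 1 := by
  simp only [P, h.zero, Subgroup.coe_one]

theorem P_add_apply (h : Sit th O K0) (u v : V) (x : Fin n) : P th (u + v) x = P th u (P th v x) := by
  rw [P_add h]; rfl

theorem P_P (h : Sit th O K0) (v : V) (x : Fin n) : P th v (P th v x) = x := by
  rw [← P_add_apply h, v_add_self, P_zero h]; rfl

theorem P_comm (h : Sit th O K0) (u v : V) (x : Fin n) : P th u (P th v x) = P th v (P th u x) := by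
  rw [← P_add_apply h, ← P_add_apply h, add_comm]

theorem P_eq_one (h : Sit th O K0) {v : V} (hv : P th v = 1) : v = 0 := by
  rw [← h.eq_one_iff]; exact Subtype.ext hv

/-- even involutions which commute with `A` lie in `A` -/
theorem exists_P (h : Sit th O K0) {s : Equiv.Perm (Fin n)} (hc : ∀ v x, s (P th v x) = P th v (s x))
    (h2 : ∀ x, s (s x) = x) (he : sign s = 1) : ∃ w, P th w = s := by
  have hs : s ∈ alternatingGroup (Fin n) := mem_alternatingGroup.2 he
  obtain ⟨w, hw⟩ := h.mem_of_mul_self (x := ⟨s, hs⟩)
    (fun v => Subtype.ext (Equiv.ext fun x => hc v x)) (Subtype.ext (Equiv.ext fun x => h2 x))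
  exact ⟨w, congrArg Subtype.val hw⟩

theorem card_support_eq (h : Sit th O K0) {u v : V} (hu : u ≠ 0) (hv : v ≠ 0) :
    (P th u).support.card = (P th v).support.card := by
  obtain ⟨k, -, hk⟩ := h.exists_conj hu hv
  have hk' : (k : Equiv.Perm (Fin n)) * P th u * (k : Equiv.Perm (Fin n))⁻¹ = P th v := by
    have := congrArg Subtype.val hk
    simpa using this
  rw [← hk', card_support_conj]

/-- two nonzero vectors do not have disjoint supports -/
theorem not_disjoint (h : Sit th O K0) {u v : V} (hu : u ≠ 0) (hv : v ≠ 0) (hd : (P th u).Disjoint (P th v)) :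
    False := by
  have huv : u + v ≠ 0 := fun hh => by
    rw [add_eq_zero_iff] at hh
    subst hh
    exact hu (P_eq_one h (disjoint_refl_iff.1 hd))
  have h1 := hd.card_support_mul
  rw [← P_add h, card_support_eq h huv hu, card_support_eq h hv hu] at h1
  have h2 : (P th u).support.card ≠ 0 := fun hh => hu (P_eq_one h (card_support_eq_zero.1 hh))
  omega

/-- restriction of `v` to the orbit of `x` -/
noncomputable def dl (h : Sit th O K0) (x : Fin n) (v : V) : Equiv.Perm (Fin n) := by
  classical
  exact Function.Involutive.toPerm (fun y => if ∃ u, P th u x = y then P th v y else y) (by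
    intro y
    by_cases hy : ∃ u, P th u x = y
    · have hy' : ∃ u, P th u x = P th v y := by
        obtain ⟨u, rfl⟩ := hy
        exact ⟨v + u, P_add_apply h v u x⟩
      simp only [hy, hy', if_true]
      exact P_P h v y
    · simp only [hy, if_false])

theorem dl_of_mem (h : Sit th O K0) {x y : Fin n} (v : V) (hy : ∃ u, P th u x = y) : dl h x v y = P th v y := by
  classical
  exact if_pos hy

theorem dl_of_not (h : Sit th O K0) {x y : Fin n} (v : V) (hy : ¬ ∃ u, P th u x = y) : dl h x v y = y := by
  classical
  exact if_neg hy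

theorem mem_orb_iff (h : Sit th O K0) (x y : Fin n) (w : V) :
    (∃ u, P th u x = P th w y) ↔ ∃ u, P th u x = y := by
  constructor
  · rintro ⟨u, hu⟩
    exact ⟨w + u, by rw [P_add_apply h, hu, P_P h]⟩
  · rintro ⟨u, rfl⟩
    exact ⟨w + u, P_add_apply h w u x⟩

theorem dl_comm (h : Sit th O K0) (x : Fin n) (v w : V) (y : Fin n) :
    dl h x v (P th w y) = P th w (dl h x v y) := by
  by_cases hy : ∃ u, P th u x = y
  · rw [dl_of_mem h v hy, dl_of_mem h v ((mem_orb_iff h x y w).2 hy), P_comm h]
  · rw [dl_of_not h v hy, dl_of_not h v (fun hh => hy ((mem_orb_iff h x y w).1 hh))]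

theorem dl_dl (h : Sit th O K0) (x : Fin n) (v : V) (y : Fin n) : dl h x v (dl h x v y) = y := by
  by_cases hy : ∃ u, P th u x = y
  · rw [dl_of_mem h v hy, dl_of_mem h v ((mem_orb_iff h x y v).2 hy), P_P h]
  · rw [dl_of_not h v hy, dl_of_not h v hy]

/-- if the orbit is fixed by a vector at one point, then everywhere -/
theorem fix_orb (h : Sit th O K0) {x y : Fin n} {v : V} (hx : P th v x = x) (hy : ∃ u, P th u x = y) :
    P th v y = y := by
  obtain ⟨u, rfl⟩ := hy
  rw [P_comm h, hx]

/-- the number of points of an orbit is a power of two -/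
theorem card_orb (h : Sit th O K0) (x : Fin n) :
    (Finset.univ.image fun v => P th v x).card ∣ 64 := by
  have h1 : (Finset.univ : Finset V).card = ∑ y ∈ (Finset.univ.image fun v => P th v x),
      (Finset.univ.filter fun v => P th v x = y).card :=
    Finset.card_eq_sum_card_image (fun v => P th v x) Finset.univ
  have h2 : ∀ y ∈ (Finset.univ.image fun v => P th v x),
      (Finset.univ.filter fun v => P th v x = y).card = (Finset.univ.filter fun v => P th v x = x).card := by
    intro y hy
    obtain ⟨u, -, rfl⟩ := Finset.mem_image.1 hy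
    apply Finset.card_bij (fun v _ => u + v)
    · intro a ha
      simp only [Finset.mem_filter, Finset.mem_univ, true_and] at ha ⊢
      rw [P_add_apply h, ha, P_P h]
    · intro a _ b _ hab
      exact add_left_cancel hab
    · intro b hb
      simp only [Finset.mem_filter, Finset.mem_univ, true_and] at hb
      refine ⟨u + b, ?_, self_add_add u b⟩
      simp only [Finset.mem_filter, Finset.mem_univ, true_and]
      rw [P_add_apply h, hb]
  rw [Finset.sum_congr rfl h2, Finset.sum_const, smul_eq_mul, Finset.card_univ, card_V] at h1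
  exact Dvd.intro _ h1.symm

/-- parity of a fixed point free involution on a set of `4 m` points -/
theorem sign_of_four {s : Equiv.Perm (Fin n)} (h2 : ∀ x, s (s x) = x) (h4 : 4 ∣ s.support.card) : sign s = 1 := by
  by_cases h1 : s = 1
  · rw [h1, map_one]
  have ho : orderOf s = 2 := orderOf_eq_prime (by rw [pow_two]; exact Equiv.ext fun x => h2 x) h1
  obtain ⟨k, hk⟩ := cycleType_prime_order (σ := s) (by rw [ho]; exact Nat.prime_two)
  rw [ho] at hk
  have hs := sum_cycleType s
  rw [hk, Multiset.sum_replicate, smul_eq_mul] at hs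
  rw [sign_of_cycleType, hk, Multiset.sum_replicate, Multiset.card_replicate, smul_eq_mul]
  have h3 : Even ((k + 1) * 2 + (k + 1)) := by
    obtain ⟨m, hm⟩ := h4
    rw [← hs] at hm
    exact ⟨3 * m, by omega⟩
  exact h3.neg_one_pow

theorem support_dl (h : Sit th O K0) {x : Fin n} {v : V} (hv : P th v x ≠ x) :
    (dl h x v).support = Finset.univ.image fun v => P th v x := by
  ext y
  rw [mem_support]
  simp only [Finset.mem_image, Finset.mem_univ, true_and]
  constructor
  · intro hy
    by_contra hc
    exact hy (dl_of_not h v hc)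
  · rintro ⟨u, rfl⟩ hy
    rw [dl_of_mem h v ⟨u, rfl⟩, P_comm h] at hy
    exact hv ((P th u).injective hy)

theorem exists_ne (h : Sit th O K0) : ∃ v x, P th v x ≠ x := by
  by_contra hc
  push Not at hc
  have h1 : P th (Pi.single (Sum.inl 0) 1) = 1 := Equiv.ext fun x => hc _ x
  have h2 := P_eq_one h h1
  have h3 := congrFun h2 (Sum.inl 0)
  simp at h3

/-- there is exactly one nontrivial orbit and it is regular -/
theorem regular (h : Sit th O K0) : ∃ x, (∀ v, P th v x = x → v = 0) ∧
    ∀ y, (¬ ∃ u, P th u x = y) → ∀ v, P th v y = y := by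
  by_cases hcase : ∃ x v0, P th v0 x ≠ x ∧ ∀ v, sign (dl h x v) = 1
  · obtain ⟨x, v0, hv0, hs⟩ := hcase
    refine ⟨x, ?_⟩
    have key : ∀ v, P th v x = x ∨ ∀ y, (¬ ∃ u, P th u x = y) → P th v y = y := by
      intro v
      obtain ⟨w, hw⟩ := exists_P h (dl_comm h x v) (dl_dl h x v) (hs v)
      by_cases hw0 : w = 0
      · left
        rw [hw0, P_zero h] at hw
        have := dl_of_mem h v (x := x) (y := x) ⟨0, by rw [P_zero h]; rfl⟩
        rw [← hw] at this
        exact this.symm
      by_cases hvw : v + w = 0
      · right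
        rw [add_eq_zero_iff] at hvw
        intro y hy
        rw [hvw, hw]
        exact dl_of_not h v hy
      · exfalso
        refine not_disjoint h hw0 hvw ?_
        intro y
        by_cases hy : ∃ u, P th u x = y
        · right
          rw [P_add_apply h, hw, dl_of_mem h v hy, P_P h]
        · left
          rw [hw, dl_of_not h v hy]
    have hW : ∀ v y, (¬ ∃ u, P th u x = y) → P th v y = y := by
      have hW0 := (key v0).resolve_left hv0
      intro v
      rcases key v with h1 | h1
      · rcases key (v + v0) with h2 | h2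
        · exfalso
          apply hv0
          rw [add_comm, P_add_apply h, h1] at h2
          exact h2
        · intro y hy
          have h3 := h2 y hy
          rwa [P_add_apply h, hW0 y hy] at h3
      · exact h1
    refine ⟨?_, fun y hy v => hW v y hy⟩
    intro v hv
    apply P_eq_one h
    ext1 y
    by_cases hy : ∃ u, P th u x = y
    · exact fix_orb h hv hy
    · exact hW v y hy
  · exfalso
    push Not at hcase
    -- all nontrivial orbits have two points
    have htwo : ∀ x v0, P th v0 x ≠ x → ∀ v, P th v x = x ∨ P th v x = P th v0 x := by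
      intro x v0 hv0
      obtain ⟨v1, hv1⟩ := hcase x v0 hv0
      have hn4 : ¬ 4 ∣ (Finset.univ.image fun v => P th v x).card := by
        intro h4
        by_cases hvx : P th v1 x = x
        · apply hv1
          have : dl h x v1 = 1 := by
            ext1 y
            by_cases hy : ∃ u, P th u x = y
            · rw [dl_of_mem h v1 hy]; exact fix_orb h hvx hy
            · rw [dl_of_not h v1 hy]; rfl
          rw [this, map_one]
        · rw [← support_dl h hvx] at h4
          exact hv1 (sign_of_four (dl_dl h x v1) h4)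
      have hd := card_orb h x
      rw [show (64 : ℕ) = 2 ^ 6 by norm_num, Nat.dvd_prime_pow Nat.prime_two] at hd
      obtain ⟨k, -, hk⟩ := hd
      have hk1 : k ≤ 1 := by
        by_contra hc
        apply hn4
        rw [hk]
        exact pow_dvd_pow 2 (by omega : 2 ≤ k)
      have hle : (Finset.univ.image fun v => P th v x).card ≤ 2 := by
        rw [hk]
        calc 2 ^ k ≤ 2 ^ 1 := Nat.pow_le_pow_right (by norm_num) hk1
          _ = 2 := by norm_num
      have hsub : ({x, P th v0 x} : Finset (Fin n)) ⊆ Finset.univ.image fun v => P th v x := by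
        intro y hy
        simp only [Finset.mem_insert, Finset.mem_singleton] at hy
        simp only [Finset.mem_image, Finset.mem_univ, true_and]
        rcases hy with rfl | rfl
        · exact ⟨0, by rw [P_zero h]; rfl⟩
        · exact ⟨v0, rfl⟩
      have heq := Finset.eq_of_subset_of_card_le hsub (by
        rw [Finset.card_pair (Ne.symm hv0)]; exact hle)
      intro v
      have : P th v x ∈ ({x, P th v0 x} : Finset (Fin n)) := by
        rw [heq]
        exact Finset.mem_image.2 ⟨v, Finset.mem_univ _, rfl⟩
      simpa using this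
    obtain ⟨v0, x, hv0⟩ := exists_ne h
    -- a second orbit
    have hsec : ∃ y v1, (¬ ∃ u, P th u x = y) ∧ P th v1 y ≠ y := by
      by_contra hc
      push Not at hc
      have hcard : (Finset.univ : Finset V).card ≤ ({x, P th v0 x} : Finset (Fin n)).card := by
        apply Finset.card_le_card_of_injOn (fun v => P th v x)
        · intro v _
          have := htwo x v0 hv0 v
          simpa using this
        · intro a _ b _ hab
          have hab' : P th a x = P th b x := hab
          have h1 : P th (a + b) x = x := by rw [P_add_apply h, ← hab', P_P h]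
          have h2 : a + b = 0 := by
            apply P_eq_one h
            ext1 y
            by_cases hy : ∃ u, P th u x = y
            · exact fix_orb h h1 hy
            · exact hc y (a + b) (fun u hu => hy ⟨u, hu⟩)
          exact (add_eq_zero_iff _ _).1 h2
      rw [Finset.card_univ, card_V, Finset.card_pair (Ne.symm hv0)] at hcard
      omega
    obtain ⟨y, v1, hy, hv1⟩ := hsec
    have hy' : ¬ ∃ u, P th u y = x := by
      rintro ⟨u, hu⟩
      exact hy ⟨u, by rw [← hu, P_P h]⟩
    -- a common fixing vector
    have hfix : ∃ a b : V, a ≠ b ∧ P th a x = P th b x ∧ P th a y = P th b y := by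
      have hlt : (({x, P th v0 x} : Finset (Fin n)) ×ˢ ({y, P th v1 y} : Finset (Fin n))).card <
          (Finset.univ : Finset V).card := by
        rw [Finset.card_product, Finset.card_pair (Ne.symm hv0), Finset.card_pair (Ne.symm hv1), Finset.card_univ,
          card_V]
        norm_num
      obtain ⟨a, -, b, -, hab, heq⟩ := Finset.exists_ne_map_eq_of_card_lt_of_maps_to hlt
        (f := fun v => (P th v x, P th v y)) (by
          intro v _
          have h1 := htwo x v0 hv0 v
          have h2 := htwo y v1 hv1 v
          simp only [Finset.mem_coe, Finset.mem_product, Finset.mem_insert, Finset.mem_singleton]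
          exact ⟨h1, h2⟩)
      exact ⟨a, b, hab, (Prod.ext_iff.1 heq).1, (Prod.ext_iff.1 heq).2⟩
    obtain ⟨a, b, hab, hax, hay⟩ := hfix
    have hab0 : a + b ≠ 0 := fun hh => hab ((add_eq_zero_iff _ _).1 hh)
    have habx : P th (a + b) x = x := by rw [P_add_apply h, ← hax, P_P h]
    have haby : P th (a + b) y = y := by rw [P_add_apply h, ← hay, P_P h]
    -- an even product supported on the two orbits
    have hw : ∃ s : Equiv.Perm (Fin n), (∀ v z, s (P th v z) = P th v (s z)) ∧ (∀ z, s (s z) = z) ∧ sign s = 1 ∧
        s ≠ 1 ∧ ∀ z, (¬ ∃ u, P th u x = z) → (¬ ∃ u, P th u y = z) → s z = z := by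
      rcases Int.units_eq_one_or (sign (dl h x v0)) with h1 | h1
      · refine ⟨dl h x v0, dl_comm h x v0, dl_dl h x v0, h1, ?_, fun z hz _ => dl_of_not h v0 hz⟩
        intro hh
        apply hv0
        rw [← dl_of_mem h v0 ⟨0, by rw [P_zero h]; rfl⟩, hh]
        rfl
      rcases Int.units_eq_one_or (sign (dl h y v1)) with h2 | h2
      · refine ⟨dl h y v1, dl_comm h y v1, dl_dl h y v1, h2, ?_, fun z _ hz => dl_of_not h v1 hz⟩
        intro hh
        apply hv1
        rw [← dl_of_mem h v1 ⟨0, by rw [P_zero h]; rfl⟩, hh]
        rfl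
      refine ⟨dl h x v0 * dl h y v1, ?_, ?_, by rw [map_mul, h1, h2]; rfl, ?_, ?_⟩
      · intro v z
        rw [mul_apply, mul_apply, dl_comm, dl_comm]
      · have hcomm : ∀ z, dl h x v0 (dl h y v1 z) = dl h y v1 (dl h x v0 z) := by
          intro z
          by_cases hz : ∃ u, P th u x = z
          · rw [dl_of_mem h v0 hz, dl_comm]
            have hz' : ¬ ∃ u, P th u y = z := by
              rintro ⟨u, rfl⟩
              exact hy ((mem_orb_iff h x y u).1 hz)
            rw [dl_of_not h v1 hz', dl_of_mem h v0 hz]
          · rw [dl_of_not h v0 hz]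
            by_cases hz' : ∃ u, P th u y = z
            · rw [dl_of_mem h v1 hz', dl_of_not]
              rwa [mem_orb_iff h x z v1]
            · rw [dl_of_not h v1 hz', dl_of_not h v0 hz]
        intro z
        rw [mul_apply, mul_apply, hcomm, dl_dl h x v0, dl_dl]
      · intro hh
        apply hv0
        have h3 := congrArg (fun s : Equiv.Perm (Fin n) => s x) hh
        simp only [mul_apply, one_apply] at h3
        rw [dl_of_not h v1 hy', dl_of_mem h v0 ⟨0, by rw [P_zero h]; rfl⟩] at h3
        exact h3
      · intro z hz hz'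
        rw [mul_apply, dl_of_not h v1 hz', dl_of_not h v0 hz]
    obtain ⟨s, hs1, hs2, hs3, hs4, hs5⟩ := hw
    obtain ⟨w, hw⟩ := exists_P h hs1 hs2 hs3
    have hw0 : w ≠ 0 := by
      rintro rfl
      apply hs4
      rw [← hw, P_zero h]
    refine not_disjoint h hab0 hw0 ?_
    intro z
    by_cases hz : ∃ u, P th u x = z
    · left; exact fix_orb h habx hz
    by_cases hz' : ∃ u, P th u y = z
    · left; exact fix_orb h haby hz'
    · right
      rw [hw]
      exact hs5 z hz hz'

/-- a linear map of order three which is not an isometry -/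
def g3 : V ≃+ V where
  toFun v := Sum.elim ![v (Sum.inl 1), v (Sum.inl 0) + v (Sum.inl 1), v (Sum.inl 2)] (fun i => v (Sum.inr i))
  invFun v := Sum.elim ![v (Sum.inl 0) + v (Sum.inl 1), v (Sum.inl 0), v (Sum.inl 2)] (fun i => v (Sum.inr i))
  left_inv := by
    intro v
    funext i
    rcases i with i | i
    · fin_cases i
      · simp only [Sum.elim_inl]
        show v (Sum.inl 1) + (v (Sum.inl 0) + v (Sum.inl 1)) = v (Sum.inl 0)
        rw [add_left_comm, z2_add_self, add_zero]
      · rfl
      · rfl
    · rfl
  right_inv := by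
    intro v
    funext i
    rcases i with i | i
    · fin_cases i
      · rfl
      · simp only [Sum.elim_inl]
        show v (Sum.inl 0) + v (Sum.inl 1) + v (Sum.inl 0) = v (Sum.inl 1)
        rw [add_right_comm, z2_add_self, zero_add]
      · rfl
    · rfl
  map_add' := by
    intro u v
    funext i
    rcases i with i | i
    · fin_cases i
      · rfl
      · show (u (Sum.inl 0) + v (Sum.inl 0)) + (u (Sum.inl 1) + v (Sum.inl 1)) =
          (u (Sum.inl 0) + u (Sum.inl 1)) + (v (Sum.inl 0) + v (Sum.inl 1))
        ring
      · rfl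
    · rfl

/-- the permutation of `V` given by `g3` -/
def s3 : Equiv.Perm V := g3.toEquiv

theorem s3_apply (v : V) : s3 v = g3 v := rfl

theorem s3_pow : s3 ^ 3 = 1 := by
  have h0 : ∀ v : V, (g3 v) (Sum.inl 0) = v (Sum.inl 1) := fun v => rfl
  have h1 : ∀ v : V, (g3 v) (Sum.inl 1) = v (Sum.inl 0) + v (Sum.inl 1) := fun v => rfl
  have h2 : ∀ v : V, (g3 v) (Sum.inl 2) = v (Sum.inl 2) := fun v => rfl
  have h3 : ∀ (v : V) (i : Fin 3), (g3 v) (Sum.inr i) = v (Sum.inr i) := fun v i => rfl
  have hz := z2_add_self
  apply Equiv.ext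
  intro v
  have e1 : (s3 ^ 3) v = g3 (g3 (g3 v)) := by
    rw [pow_succ, pow_two]; rfl
  rw [e1, one_apply]
  funext i
  rcases i with i | i
  · fin_cases i
    · show (g3 (g3 (g3 v))) (Sum.inl 0) = v (Sum.inl 0)
      rw [h0, h1, h0, h1, add_left_comm, hz, add_zero]
    · show (g3 (g3 (g3 v))) (Sum.inl 1) = v (Sum.inl 1)
      simp only [h1, h0]
      linear_combination hz (v (Sum.inl 0)) + hz (v (Sum.inl 1))
    · show (g3 (g3 (g3 v))) (Sum.inl 2) = v (Sum.inl 2)
      rw [h2, h2, h2]
  · rw [h3, h3, h3]

theorem g3_not_isom : ¬ Isom g3 := by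
  intro h
  have := h (Pi.single (Sum.inl 0) 1) (Pi.single (Sum.inr 0) 1)
  revert this
  decide

theorem sign_s3 : sign s3 = 1 := by
  have h := congrArg sign s3_pow
  rw [map_pow, map_one] at h
  rcases Int.units_eq_one_or (sign s3) with h1 | h1
  · exact h1
  · rw [h1] at h
    exact absurd h (by decide)

end Alt

open Alt in
/-- **task 1299** -/
theorem row_alt {n : ℕ} {th : V → alternatingGroup (Fin n)} {O K0 : Subgroup (alternatingGroup (Fin n))}
    (h : Sit th O K0) : False := by
  classical
  obtain ⟨x, hreg, hout⟩ := regular h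
  let p : Fin n → Prop := fun y => ∃ u, P th u x = y
  let e : V ≃ Subtype p := Equiv.ofBijective (fun v => ⟨P th v x, v, rfl⟩) (by
    constructor
    · intro a b hab
      have hab' : P th a x = P th b x := congrArg Subtype.val hab
      have h1 : P th (a + b) x = x := by rw [P_add_apply h, ← hab', P_P h]
      exact (add_eq_zero_iff _ _).1 (hreg _ h1)
    · rintro ⟨y, u, hu⟩
      exact ⟨u, Subtype.ext hu⟩)
  have he : ∀ v, (e v : Fin n) = P th v x := fun v => rfl
  let s : Equiv.Perm (Fin n) := s3.extendDomain e
  have hs1 : ∀ v, s (P th v x) = P th (g3 v) x := by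
    intro v
    have := extendDomain_apply_image s3 e v
    rw [he, he, s3_apply] at this
    exact this
  have hs2 : ∀ y, ¬ p y → s y = y := fun y hy => extendDomain_apply_not_subtype s3 e hy
  have hsign : s ∈ alternatingGroup (Fin n) := by
    rw [mem_alternatingGroup]
    show sign (s3.extendDomain e) = 1
    rw [sign_extendDomain]
    exact sign_s3
  have hconj : ∀ v, (⟨s, hsign⟩ : alternatingGroup (Fin n)) * th v * (⟨s, hsign⟩ : alternatingGroup (Fin n))⁻¹ =
      th (g3 v) := by
    intro v
    rw [mul_inv_eq_iff_eq_mul]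
    apply Subtype.ext
    show s * P th v = P th (g3 v) * s
    ext1 y
    rw [mul_apply, mul_apply]
    by_cases hy : p y
    · obtain ⟨u, rfl⟩ := hy
      rw [← P_add_apply h, hs1, hs1, ← P_add_apply h, map_add]
    · rw [hout y hy, hs2 y hy, hout y hy]
  apply g3_not_isom
  intro u v
  exact h.act ⟨s, hsign⟩ (fun v => ⟨_, hconj v⟩) u v (g3 u) (g3 v) (hconj u) (hconj v)

end Cfsg.Agent.H669.Sp6
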