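import Cfsg.Agent.H669.Sp6.Rep
import Cfsg.Prelude.Def_LieTypeChar

/-!
# Task 1303: the exceptional groups G₂, ³D₄, ²G₂, F₄ in odd characteristic (row of S3405)
-/

set_option autoImplicit false

namespace Cfsg.Agent.H669.Sp6

open Cfsg.Agent.H336.SpSix Cfsg.Lie

variable {K : Type*} [Group K] {th : V → K} {O K0 : Subgroup K}

/-- a subgroup of a Chevalley group on its Lie algebra of dimension `< 63`, in odd characteristic -/
theorem false_of_subgroup (h : Sit th O K0) {F : Type*} [Field F] (h2 : (2 : F) ≠ 0) (D : ChevalleyDatum)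
    (hD : D.rank + D.nroots < 63) (H : Subgroup (GL D.Idx F)) (e : K ≃* H) : False := by
  refine false_of_GL h h2 (ι := D.Idx) ?_ (H.subtype.comp e.toMonoidHom)
    (H.subtype_injective.comp e.injective)
  rw [Fintype.card_sum, Fintype.card_fin, Fintype.card_fin]
  exact hD

theorem row_chevG2 (h : Sit th O K0) {F : Type*} [Field F] (h2 : (2 : F) ≠ 0) (e : K ≃* chevG2.group F) : False :=
  false_of_subgroup h h2 chevG2 (by show 2 + 12 < 63; norm_num) _ e

theorem row_F4 (h : Sit th O K0) {F : Type*} [Field F] (h2 : (2 : F) ≠ 0) (e : K ≃* chevF4.group F) : False :=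
  false_of_subgroup h h2 chevF4 (by show 4 + 48 < 63; norm_num) _ e

theorem row_3D4 (h : Sit th O K0) {F : Type*} [Field F] (h2 : (2 : F) ≠ 0) {q : ℕ} (e : K ≃* twistedD4 F q) :
    False :=
  false_of_subgroup h h2 chevD4 (by show 4 + 24 < 63; norm_num) _ e

theorem row_Ree (h : Sit th O K0) (hR : IsoRee K) : False := by
  obtain ⟨F, i1, i2, m, -, hF, ⟨e⟩⟩ := hR
  refine false_of_subgroup h (F := F) ?_ chevG2 (by show 2 + 12 < 63; norm_num) _ e
  intro h2
  have h3 : ((Fintype.card F : ℕ) : F) = 0 := Nat.cast_card_eq_zero F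
  rw [hF, Nat.cast_pow, pow_eq_zero_iff (by omega)] at h3
  have h4 : (1 : F) = 0 := by
    have : (1 : F) = ((3 : ℕ) : F) - 2 := by norm_num
    rw [this, h3, h2, sub_zero]
  exact one_ne_zero h4

theorem charP_two {F : Type*} [Field F] (h2 : (2 : F) = 0) : CharP F 2 :=
  CharTwo.of_one_ne_zero_of_two_eq_zero one_ne_zero h2

/-- **task 1303** -/
theorem row_excA (hK : IsoChevG2 K ∨ IsoF4 K ∨ Iso3D4 K ∨ IsoRee K) (hchar : ¬ IsLieTypeChar 2 K)
    (h : Sit th O K0) : False := by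
  rcases hK with hK | hK | hK | hK
  · obtain ⟨F, i1, i2, h3, ⟨e⟩⟩ := hK
    by_cases h2 : (2 : F) = 0
    · have := charP_two h2
      exact hchar (Or.inr (Or.inr (Or.inr (Or.inr (Or.inr (Or.inr (Or.inl
        ⟨F, i1, i2, inferInstance, Or.inl ⟨h3, ⟨e⟩⟩⟩)))))))
    · exact row_chevG2 h h2 e
  · obtain ⟨F, i1, i2, ⟨e⟩⟩ := hK
    by_cases h2 : (2 : F) = 0
    · have := charP_two h2
      exact hchar (Or.inr (Or.inr (Or.inr (Or.inr (Or.inr (Or.inr (Or.inl
        ⟨F, i1, i2, inferInstance, Or.inr (Or.inl ⟨e⟩)⟩)))))))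
    · exact row_F4 h h2 e
  · obtain ⟨F, i1, i2, q, hq, hF, ⟨e⟩⟩ := hK
    by_cases h2 : (2 : F) = 0
    · have := charP_two h2
      exact hchar (Or.inr (Or.inr (Or.inr (Or.inr (Or.inr (Or.inr (Or.inr (Or.inl
        ⟨F, i1, i2, inferInstance, q, hq, Or.inr ⟨hF, ⟨e⟩⟩⟩))))))))
    · exact row_3D4 h h2 e
  · exact row_Ree h hK

end Cfsg.Agent.H669.Sp6
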