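import Cfsg.Agent.H336.SpSix.Def

/-!
# Representations in odd characteristic of a group containing an elementary abelian group of order 64 with
symplectic normaliser: the dimension is at least 63
-/

set_option autoImplicit false

namespace Cfsg.Agent.H669.Sp6

open Cfsg.Agent.H336.SpSix Module

section
variable {F : Type*} [Field F]

/-- the quadratic character with values in a field -/
def ch (x : ZMod 2) : F := if x = 0 then 1 else -1

theorem ch_zero : (ch 0 : F) = 1 := rfl

theorem ch_one : (ch 1 : F) = -1 := rfl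

theorem ch_add (x y : ZMod 2) : (ch (x + y) : F) = ch x * ch y := by
  rcases z2 x with rfl | rfl <;> rcases z2 y with rfl | rfl
  · rw [add_zero, ch_zero, one_mul]
  · rw [zero_add, ch_zero, one_mul]
  · rw [add_zero, ch_zero, mul_one]
  · rw [z2_add_self, ch_one, ch_zero]; ring

theorem ch_mul_self (x : ZMod 2) : (ch x * ch x : F) = 1 := by
  rw [← ch_add, z2_add_self, ch_zero]

theorem card_V' : Fintype.card V = 64 := by simp [V]

theorem sum_ch (h2 : (2 : F) ≠ 0) {c : V} (hc : c ≠ 0) : ∑ u : V, (ch (om c u) : F) = 0 := by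
  obtain ⟨u0, hu0⟩ := exists_om hc
  have h1 : ∑ u : V, (ch (om c u) : F) = ∑ u : V, (ch (om c (u + u0)) : F) :=
    (Equiv.sum_comp (Equiv.addRight u0) fun u => (ch (om c u) : F)).symm
  have h3 : ∑ u : V, (ch (om c (u + u0)) : F) = - ∑ u : V, (ch (om c u) : F) := by
    rw [← Finset.sum_neg_distrib]
    refine Finset.sum_congr rfl fun u _ => ?_
    rw [om_add_right, hu0, ch_add, ch_one]; ring
  rw [h3] at h1
  have h4 : (2 : F) * ∑ u : V, (ch (om c u) : F) = 0 := by linear_combination h1
  exact (mul_eq_zero.1 h4).resolve_left h2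

theorem sum_ch_zero : ∑ u : V, (ch (om 0 u) : F) = 64 := by
  simp only [om_zero_left, ch_zero, Finset.sum_const, Finset.card_univ, card_V', nsmul_eq_mul, mul_one]
  norm_num

theorem sixtyfour_ne (h2 : (2 : F) ≠ 0) : (64 : F) ≠ 0 := by
  have : (64 : F) = 2 ^ 6 := by norm_num
  rw [this]
  exact pow_ne_zero _ h2

end

section
variable {K : Type*} [Group K] {th : V → K} {O K0 : Subgroup K} {F W : Type*} [Field F] [AddCommGroup W] [Module F W]

/-- the weight space of a vector -/
def wt (th : V → K) (ρ : K →* End F W) (c : V) : Submodule F W where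
  carrier := {w | ∀ v, ρ (th v) w = (ch (om c v) : F) • w}
  add_mem' := by
    intro a b ha hb v
    rw [map_add, ha v, hb v, smul_add]
  zero_mem' := by intro v; rw [map_zero, smul_zero]
  smul_mem' := by
    intro a w hw v
    rw [map_smul, hw v, smul_comm]

theorem mem_wt {ρ : K →* End F W} {c : V} {w : W} :
    w ∈ wt th ρ c ↔ ∀ v, ρ (th v) w = (ch (om c v) : F) • w := Iff.rfl

/-- the projection on a weight space, times 64 -/
def pr (th : V → K) (ρ : K →* End F W) (c : V) : End F W := ∑ u : V, (ch (om c u) : F) • ρ (th u)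

theorem pr_apply (ρ : K →* End F W) (c : V) (w : W) :
    pr th ρ c w = ∑ u : V, (ch (om c u) : F) • ρ (th u) w := by
  rw [pr, LinearMap.sum_apply]
  rfl

theorem pr_mem (h : Sit th O K0) (ρ : K →* End F W) (c : V) (w : W) : pr th ρ c w ∈ wt th ρ c := by
  intro v
  rw [pr_apply, map_sum, Finset.smul_sum]
  have h1 : ∀ u : V, ρ (th v) ((ch (om c u) : F) • ρ (th u) w) =
      (ch (om c v) : F) • ((ch (om c (u + v)) : F) • ρ (th (u + v)) w) := by
    intro u
    rw [map_smul, ← Module.End.mul_apply, ← map_mul, ← h.add, add_comm v u, smul_smul, om_add_right, ch_add,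
      mul_comm (ch (om c u) : F), ← mul_assoc, ch_mul_self, one_mul]
  rw [Finset.sum_congr rfl fun u _ => h1 u]
  exact Equiv.sum_comp (Equiv.addRight v) fun u => (ch (om c v) : F) • ((ch (om c u) : F) • ρ (th u) w)

theorem pr_of_mem_self {ρ : K →* End F W} {c : V} {w : W} (hw : w ∈ wt th ρ c) :
    pr th ρ c w = (64 : F) • w := by
  rw [pr_apply]
  have h1 : ∀ u : V, (ch (om c u) : F) • ρ (th u) w = w := by
    intro u
    rw [hw u, smul_smul, ch_mul_self, one_smul]
  rw [Finset.sum_congr rfl fun u _ => h1 u, Finset.sum_const, Finset.card_univ, card_V', ← Nat.cast_smul_eq_nsmul F]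
  norm_num

theorem pr_of_mem_ne (h2 : (2 : F) ≠ 0) {ρ : K →* End F W} {c d : V} (hcd : c ≠ d) {w : W} (hw : w ∈ wt th ρ d) :
    pr th ρ c w = 0 := by
  rw [pr_apply]
  have h1 : ∀ u : V, (ch (om c u) : F) • ρ (th u) w = (ch (om (c + d) u) : F) • w := by
    intro u
    rw [hw u, smul_smul, om_add_left, ch_add]
  rw [Finset.sum_congr rfl fun u _ => h1 u, ← Finset.sum_smul,
    sum_ch h2 (fun hh => hcd ((add_eq_zero_iff _ _).1 hh)), zero_smul]

theorem sum_pr (h : Sit th O K0) (h2 : (2 : F) ≠ 0) (ρ : K →* End F W) (w : W) :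
    ∑ c : V, pr th ρ c w = (64 : F) • w := by
  simp only [pr_apply]
  rw [Finset.sum_comm]
  simp only [← Finset.sum_smul]
  rw [Finset.sum_eq_single 0]
  · have : ∑ c : V, (ch (om c 0) : F) = 64 := by
      rw [← sum_ch_zero]
      exact Finset.sum_congr rfl fun u _ => by rw [om_zero_left, om_zero_right]
    rw [this, h.zero, map_one]; rfl
  · intro u _ hu
    have : ∑ c : V, (ch (om c u) : F) = 0 := by
      rw [← sum_ch h2 hu]
      exact Finset.sum_congr rfl fun c _ => by rw [om_comm]
    rw [this, zero_smul]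
  · intro hh; exact absurd (Finset.mem_univ _) hh

/-- isometries permute the weight spaces -/
theorem map_wt {ρ : K →* End F W} {c : V} {w : W} (hw : w ∈ wt th ρ c) {g : V ≃+ V} (hg : Isom g) {k : K}
    (hk : ∀ v, k * th v * k⁻¹ = th (g v)) : ρ k w ∈ wt th ρ (g c) := by
  intro u
  obtain ⟨v, rfl⟩ := g.surjective u
  rw [← hk, hg, ← Module.End.mul_apply, ← map_mul, inv_mul_cancel_right, map_mul, Module.End.mul_apply, hw v,
    map_smul]

theorem rho_inj (ρ : K →* End F W) (k : K) {w : W} (hw : ρ k w = 0) : w = 0 := by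
  have h1 : ρ k⁻¹ (ρ k w) = w := by
    rw [← Module.End.mul_apply, ← map_mul, inv_mul_cancel, map_one]; rfl
  rw [← h1, hw, map_zero]

/-- nonzero weight vectors for different weights are linearly independent -/
theorem linInd (h2 : (2 : F) ≠ 0) (ρ : K →* End F W) {S : V → Prop} {w : Subtype S → W}
    (hw : ∀ c : Subtype S, w c ∈ wt th ρ (c : V)) (hne : ∀ c, w c ≠ 0) : LinearIndependent F w := by
  classical
  rw [Fintype.linearIndependent_iff]
  intro a ha c
  have h1 := congrArg (pr th ρ c) ha
  rw [map_sum, map_zero, Finset.sum_eq_single c] at h1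
  · rw [map_smul, pr_of_mem_self (hw c), smul_smul] at h1
    exact (mul_eq_zero.1 ((smul_eq_zero.1 h1).resolve_right (hne c))).resolve_right (sixtyfour_ne h2)
  · intro b _ hb
    rw [map_smul, pr_of_mem_ne h2 (fun hh => hb (Subtype.ext hh.symm)) (hw b), smul_zero]
  · intro hh; exact absurd (Finset.mem_univ _) hh

/-- **the dimension of a representation which is not trivial on `A` is at least 63** -/
theorem finrank_ge (h : Sit th O K0) (h2 : (2 : F) ≠ 0) [FiniteDimensional F W] (ρ : K →* End F W)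
    (hne : ∃ v, ρ (th v) ≠ 1) : 63 ≤ finrank F W := by
  classical
  -- a nonzero weight vector for a nonzero weight
  have h1 : ∃ c : V, c ≠ 0 ∧ ∃ w ∈ wt th ρ c, w ≠ 0 := by
    by_contra hc
    push Not at hc
    obtain ⟨v, hv⟩ := hne
    apply hv
    ext w
    have h3 := sum_pr h h2 ρ w
    rw [Finset.sum_eq_single 0] at h3
    · have h4 := pr_mem h ρ 0 w v
      rw [h3, map_smul, om_zero_left, ch_zero, one_smul] at h4
      exact smul_right_injective W (sixtyfour_ne h2) h4
    · intro c _ hc0
      exact hc c hc0 _ (pr_mem h ρ c w)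
    · intro hh; exact absurd (Finset.mem_univ _) hh
  obtain ⟨c, hc, w, hw, hw0⟩ := h1
  have h3 : ∀ d : {d : V // d ≠ 0}, ∃ w ∈ wt th ρ (d : V), w ≠ 0 := by
    rintro ⟨d, hd⟩
    obtain ⟨g, hg, rfl⟩ := exists_isom hc hd
    obtain ⟨k, -, hk⟩ := h.full g hg
    exact ⟨ρ k w, map_wt hw hg hk, fun hh => hw0 (rho_inj ρ k hh)⟩
  choose f hf hf0 using h3
  have h4 := (linInd h2 ρ (S := fun d : V => d ≠ 0) hf hf0).fintype_card_le_finrank
  have h5 : Fintype.card {d : V // d ≠ 0} = 63 := by
    rw [Fintype.card_subtype_compl, Fintype.card_subtype_eq, card_V']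
  rwa [h5] at h4

end

/-- no faithful matrix representation of degree less than 63 in odd characteristic -/
theorem false_of_GL {K : Type*} [Group K] {th : V → K} {O K0 : Subgroup K} (h : Sit th O K0) {F : Type*} [Field F]
    (h2 : (2 : F) ≠ 0) {ι : Type*} [Fintype ι] [DecidableEq ι] (hι : Fintype.card ι < 63) (ρ : K →* GL ι F)
    (hρ : Function.Injective ρ) : False := by
  let σ : K →* End F (ι → F) := ((Matrix.toLinAlgEquiv' (R := F) (n := ι)).toMonoidHom.comp
    (Units.coeHom (Matrix ι ι F))).comp ρ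
  have h1 := finrank_ge h h2 σ (by
    refine ⟨Pi.single (Sum.inl 0) 1, fun hh => ?_⟩
    have h3 : ρ (th (Pi.single (Sum.inl 0) 1)) = 1 := by
      apply Units.ext
      apply (Matrix.toLinAlgEquiv' (R := F) (n := ι)).injective
      rw [Units.val_one, map_one]
      exact hh
    have h4 : th (Pi.single (Sum.inl 0) 1) = 1 := hρ (h3.trans (map_one ρ).symm)
    have h5 := congrFun ((h.eq_one_iff _).1 h4) (Sum.inl 0)
    simp at h5)
  rw [finrank_fintype_fun_eq_card] at h1
  omega

end Cfsg.Agent.H669.Sp6
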